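import Mathlib

/-!
# Coproducts of sheaves of sets are van Kampen, hence disjoint and universal
-/

set_option autoImplicit false
set_option backward.isDefEq.respectTransparency false
set_option backward.isDefEq.respectTransparency.types false

universe u v₁ u₁

open CategoryTheory Limits

namespace Groth.Agent.SheafExt

theorem isVanKampen_types {ι : Type u} {X : ι → Type u} (c : Cofan X) (hc : IsColimit c) :
    IsVanKampenColimit c := by
  intro F' c' α f h hα
  let c₂ : Cofan (fun j => F'.obj ⟨j⟩) := Cofan.mk c'.pt fun j => c'.ι.app ⟨j⟩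
  let e : Discrete.functor (fun j => F'.obj ⟨j⟩) ≅ F' := Discrete.natIsoFunctor.symm
  have hcc : Nonempty (IsColimit c') ↔ Nonempty (IsColimit c₂) :=
    ((IsColimit.precomposeHomEquiv e c').symm.trans
      (IsColimit.equivIsoColimit (Cocone.ext (Iso.refl _) (fun j => by simp [c₂, e])))).nonempty_congr
  rw [hcc, Cofan.nonempty_isColimit_iff_bijective_fromSigma c₂]
  have hb : Function.Bijective c.cofanTypes.fromSigma :=
    (Cofan.nonempty_isColimit_iff_bijective_fromSigma c).1 ⟨hc⟩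
  have sq : ∀ (j : ι) (x : F'.obj ⟨j⟩), f (c'.ι.app ⟨j⟩ x) = c.ι.app ⟨j⟩ (α.app ⟨j⟩ x) :=
    fun j x => (ConcreteCategory.congr_hom (NatTrans.congr_app h ⟨j⟩) x).symm
  constructor
  · rintro hb' ⟨j⟩
    rw [Types.isPullback_iff]
    refine ⟨(NatTrans.congr_app h ⟨j⟩).symm, ?_, ?_⟩
    · rintro x y ⟨hxy, -⟩
      exact eq_of_heq (Sigma.mk.inj_iff.1 (hb'.1 (a₁ := ⟨j, x⟩) (a₂ := ⟨j, y⟩) hxy)).2
    · intro z x hzx
      obtain ⟨⟨k, w⟩, rfl⟩ := hb'.2 z
      have h1 : (⟨k, α.app ⟨k⟩ w⟩ : Σ i, X i) = ⟨j, x⟩ := hb.1 ((sq k w).symm.trans hzx)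
      obtain ⟨rfl, h2⟩ := Sigma.mk.inj_iff.1 h1
      exact ⟨w, rfl, eq_of_heq h2⟩
  · intro H
    refine ⟨?_, fun z => ?_⟩
    · rintro ⟨j, x⟩ ⟨k, y⟩ hxy
      change c'.ι.app ⟨j⟩ x = c'.ι.app ⟨k⟩ y at hxy
      have h1 : (⟨j, α.app ⟨j⟩ x⟩ : Σ i, X i) = ⟨k, α.app ⟨k⟩ y⟩ :=
        hb.1 ((sq j x).symm.trans ((congrArg f hxy).trans (sq k y)))
      obtain ⟨rfl, h2⟩ := Sigma.mk.inj_iff.1 h1
      have := ((Types.isPullback_iff _ _ _ _).1 (H ⟨j⟩)).2.1 x y ⟨hxy, eq_of_heq h2⟩
      rw [this]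
    · obtain ⟨⟨j, x⟩, hx⟩ := hb.2 (f z)
      obtain ⟨w, hw, -⟩ := ((Types.isPullback_iff _ _ _ _).1 (H ⟨j⟩)).2.2 z x hx.symm
      exact ⟨⟨j, w⟩, hw⟩

theorem isVanKampen_types' {ι : Type u} {F : Discrete ι ⥤ Type u} (c : Cocone F) (hc : IsColimit c) :
    IsVanKampenColimit c := by
  let e : Discrete.functor (fun j => F.obj ⟨j⟩) ≅ F := Discrete.natIsoFunctor.symm
  exact (IsVanKampenColimit.precompose_isIso_iff e.hom).1
    (isVanKampen_types (X := fun j => F.obj ⟨j⟩) _ ((IsColimit.precomposeHomEquiv e c).symm hc))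

variable {C : Type u} [Category.{u} C] (J : GrothendieckTopology C)

theorem isVanKampen_sheaf {ι : Type u} {F : Discrete ι ⥤ Sheaf J (Type u)} (c : Cocone F)
    (hc : IsColimit c) : IsVanKampenColimit c := by
  let a := presheafToSheaf J (Type u)
  let adj := sheafificationAdjunction J (Type u)
  have hP : IsVanKampenColimit (colimit.cocone (F ⋙ sheafToPresheaf J (Type u))) :=
    isVanKampenColimit_of_evaluation _ _ fun U =>
      isVanKampen_types' _ (isColimitOfPreserves _ (colimit.isColimit _))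
  have hV := hP.map_reflective adj
  let e : (F ⋙ sheafToPresheaf J (Type u)) ⋙ a ≅ F :=
    Functor.associator _ _ _ ≪≫ Functor.isoWhiskerLeft F (asIso adj.counit) ≪≫ Functor.rightUnitor F
  have hcol : IsColimit ((Cocone.precompose e.inv).obj (a.mapCocone (colimit.cocone (F ⋙ sheafToPresheaf J (Type u))))) :=
    (IsColimit.precomposeInvEquiv e _).symm (isColimitOfPreserves a (colimit.isColimit _))
  exact (hV.precompose_isIso e.inv).of_iso (hcol.uniqueUpToIso hc)

set_option maxHeartbeats 1600000 in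
set_option synthInstance.maxHeartbeats 400000 in
theorem hasInitial_sheaf : HasInitial (Sheaf J (Type u)) := by
  haveI : Reflective (sheafToPresheaf J (Type u)) := ⟨presheafToSheaf J (Type u), sheafificationAdjunction J (Type u)⟩
  exact hasColimitsOfShape_of_reflective (sheafToPresheaf J (Type u))

theorem coproductDisjoint_sheaf {ι : Type u} (X : ι → Sheaf J (Type u)) : CoproductDisjoint X := by
  haveI := hasInitial_sheaf J
  refine ⟨fun {c} hc i j hij s hs => ?_, fun hc i => mono_of_cofan_isVanKampen (isVanKampen_sheaf J _ hc) ⟨i⟩⟩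
  exact ⟨initialIsInitial.ofIso ((isPullback_initial_to_of_cofan_isVanKampen (isVanKampen_sheaf J _ hc) ⟨i⟩ ⟨j⟩
    (fun e => hij (congrArg Discrete.as e))).isoIsPullback _ _ (IsPullback.of_isLimit hs))⟩

end Groth.Agent.SheafExt
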